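/-
Elementary consequences of the bitmask model of the length-24 code:
closure of code supports under symmetric difference and complement, intersections of octads,
the Steiner system S(5, 8, 24).
-/
import Cfsg.Agent.Lib.Golay.Core
import Cfsg.Prelude.Def_Spor_Conway
import Cfsg.Agent.Lib.Ternary.Steiner

set_option autoImplicit false

namespace Cfsg.Agent.Lib.GolayOct.Basic

open Cfsg Cfsg.Agent.Lib.Golay.Core

/-- The code, as a family of sets. -/
abbrev CS : Set (Finset GolayPt) := supports (golayCode : Set (GolayPt → ZMod 2))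

theorem mem_CS_iff {s : Finset GolayPt} : s ∈ CS ↔ ∃ m < 4096, s = setOf (code m) :=
  mem_supports_iff'

theorem CS_symmDiff {a b : Finset GolayPt} (ha : a ∈ CS) (hb : b ∈ CS) : symmDiff a b ∈ CS := by
  obtain ⟨m, hm, rfl⟩ := mem_CS_iff.mp ha
  obtain ⟨n, hn, rfl⟩ := mem_CS_iff.mp hb
  refine mem_CS_iff.mpr ⟨m ^^^ n, lt_4096_xor hm hn, ?_⟩
  rw [code_xor hm hn, setOf_xor]

theorem CS_univ : (Finset.univ : Finset GolayPt) ∈ CS := Spor.univ_mem_supports_golayCode

theorem CS_empty : (∅ : Finset GolayPt) ∈ CS := Spor.empty_mem_supports_golayCode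

theorem CS_compl {a : Finset GolayPt} (ha : a ∈ CS) : aᶜ ∈ CS := by
  have : aᶜ = symmDiff Finset.univ a := by
    ext p
    simp [Finset.mem_symmDiff]
  rw [this]
  exact CS_symmDiff CS_univ ha

theorem CS_card {a : Finset GolayPt} (ha : a ∈ CS) :
    a.card = 0 ∨ a.card = 8 ∨ a.card = 12 ∨ a.card = 16 ∨ a.card = 24 := by
  obtain ⟨m, hm, rfl⟩ := mem_CS_iff.mp ha
  rw [card_setOf]
  exact code_weights m hm

theorem card_symmDiff_add (a b : Finset GolayPt) :
    (symmDiff a b).card + 2 * (a ∩ b).card = a.card + b.card := by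
  have h1 : (symmDiff a b) = (a \ b) ∪ (b \ a) := rfl
  have hd : Disjoint (a \ b) (b \ a) := by
    rw [Finset.disjoint_left]
    intro x hx hx'
    exact (Finset.mem_sdiff.mp hx').2 (Finset.mem_sdiff.mp hx).1
  rw [h1, Finset.card_union_of_disjoint hd]
  have h2 := Finset.card_sdiff_add_card_inter a b
  have h3 := Finset.card_sdiff_add_card_inter b a
  rw [Finset.inter_comm b a] at h3
  omega

theorem mem_octads_iff' {o : Finset GolayPt} : o ∈ octads ↔ o ∈ CS ∧ o.card = 8 := Iff.rfl

theorem mem_dodecads_iff' {o : Finset GolayPt} : o ∈ dodecads ↔ o ∈ CS ∧ o.card = 12 := Iff.rfl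

theorem octad_card {o : Finset GolayPt} (ho : o ∈ octads) : o.card = 8 := ho.2

theorem eq_of_symmDiff_eq_empty {a b : Finset GolayPt} (h : symmDiff a b = ∅) : a = b := by
  ext x
  have := Finset.eq_empty_iff_forall_notMem.mp h x
  rw [Finset.mem_symmDiff] at this
  tauto

/-- Two distinct octads meet in at most four points. -/
theorem octad_inter_le {o o' : Finset GolayPt} (ho : o ∈ octads) (ho' : o' ∈ octads)
    (hne : o ≠ o') : (o ∩ o').card ≤ 4 := by
  have h1 := CS_card (CS_symmDiff ho.1 ho'.1)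
  have h2 := card_symmDiff_add o o'
  rw [ho.2, ho'.2] at h2
  have h3 : (symmDiff o o').card ≠ 0 := by
    intro h
    exact hne (eq_of_symmDiff_eq_empty (Finset.card_eq_zero.mp h))
  omega

/-- The symmetric difference of two octads meeting in 4 points is an octad. -/
theorem symmDiff_octad {o o' : Finset GolayPt} (ho : o ∈ octads) (ho' : o' ∈ octads)
    (h : (o ∩ o').card = 4) : symmDiff o o' ∈ octads := by
  refine ⟨CS_symmDiff ho.1 ho'.1, ?_⟩
  have h2 := card_symmDiff_add o o'
  rw [ho.2, ho'.2] at h2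
  omega

/-- All the octads, as a finite set. -/
def octadsF : Finset (Finset GolayPt) :=
  ((Finset.range 4096).filter fun m => pop (code m) = 8).image fun m => setOf (code m)

theorem mem_octadsF {o : Finset GolayPt} : o ∈ octadsF ↔ o ∈ octads := by
  unfold octadsF
  rw [Finset.mem_image, mem_octads_iff]
  constructor
  · rintro ⟨m, hm, rfl⟩
    rw [Finset.mem_filter, Finset.mem_range] at hm
    exact ⟨m, hm.1, hm.2, rfl⟩
  · rintro ⟨m, hm, h8, rfl⟩
    exact ⟨m, Finset.mem_filter.mpr ⟨Finset.mem_range.mpr hm, h8⟩, rfl⟩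

theorem coe_octadsF : (octadsF : Set (Finset GolayPt)) = octads := by
  ext o
  exact mem_octadsF

theorem octadsF_card : octadsF.card = 759 := by
  rw [← Set.ncard_coe_finset, coe_octadsF, ncard_octads]

/-- The octads form a Steiner system S(5, 8, 24). -/
theorem steiner58 : IsSteinerSystem 5 8 octads := by
  refine ⟨fun b hb => octad_card hb, fun s hs => ?_⟩
  obtain ⟨h, hh, hsub⟩ := Cfsg.Agent.Lib.Ternary.Steiner.exists_block_of_counting octadsF 5 8
    (fun h hh => octad_card (mem_octadsF.mp hh))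
    (fun h hh h' hh' hT => by
      by_contra hne
      have := octad_inter_le (mem_octadsF.mp hh) (mem_octadsF.mp hh') hne
      omega)
    (by
      rw [octadsF_card, card_golayPt]
      norm_num [Nat.choose]) s hs
  refine ⟨h, ⟨mem_octadsF.mp hh, hsub⟩, ?_⟩
  rintro h' ⟨hh', hsub'⟩
  by_contra hne
  have h1 := octad_inter_le hh' (mem_octadsF.mp hh) hne
  have h2 := Finset.card_le_card (Finset.subset_inter hsub' hsub)
  omega

end Cfsg.Agent.Lib.GolayOct.Basic
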