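/-
Sextets of the length-24 code: every 4-set lies in a unique sextet; 1771 sextets.
-/
import Cfsg.Agent.Lib.GolayOct.Basic
import Cfsg.Agent.Lib.Steiner.Counting
import Cfsg.Prelude.Def_SporadicCombinatorics

set_option autoImplicit false

namespace Cfsg.Agent.Lib.GolayOct.Sextet

open Cfsg Cfsg.Agent.Lib.Golay.Core Cfsg.Agent.Lib.GolayOct.Basic

/-- The octads containing a 4-set. -/
def Ot (t : Finset GolayPt) : Finset (Finset GolayPt) := octadsF.filter fun o => t ⊆ o

theorem mem_Ot {t o : Finset GolayPt} : o ∈ Ot t ↔ o ∈ octads ∧ t ⊆ o := by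
  simp [Ot, mem_octadsF]

theorem Ot_card {t : Finset GolayPt} (ht : t.card = 4) : (Ot t).card = 5 := by
  have h := Cfsg.Agent.Lib.Steiner.Counting.card_blocks_through steiner58 octadsF
    (fun b => mem_octadsF) t (by omega)
  rw [ht, card_golayPt] at h
  have h2 : (Ot t).card * Nat.choose (8 - 4) (5 - 4) = Nat.choose (24 - 4) (5 - 4) := h
  norm_num at h2
  omega

theorem inter_eq_of_mem_Ot {t o o' : Finset GolayPt} (ht : t.card = 4) (ho : o ∈ Ot t)
    (ho' : o' ∈ Ot t) (hne : o ≠ o') : o ∩ o' = t := by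
  have h1 := mem_Ot.mp ho
  have h2 := mem_Ot.mp ho'
  symm
  apply Finset.eq_of_subset_of_card_le (Finset.subset_inter h1.2 h2.2)
  rw [ht]
  exact octad_inter_le h1.1 h2.1 hne

/-- The sextet of a 4-set. -/
def sext (t : Finset GolayPt) : Finset (Finset GolayPt) := insert t ((Ot t).image fun o => o \ t)

theorem self_mem_sext (t : Finset GolayPt) : t ∈ sext t := Finset.mem_insert_self _ _

theorem card_diff {t o : Finset GolayPt} (ht : t.card = 4) (ho : o ∈ Ot t) : (o \ t).card = 4 := by
  have h1 := mem_Ot.mp ho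
  rw [Finset.card_sdiff_of_subset h1.2, octad_card h1.1, ht]

theorem diff_union {t o : Finset GolayPt} (ho : o ∈ Ot t) : t ∪ (o \ t) = o := by
  have h1 := mem_Ot.mp ho
  rw [Finset.union_sdiff_of_subset h1.2]

theorem sext_card {t : Finset GolayPt} (ht : t.card = 4) : (sext t).card = 6 := by
  unfold sext
  rw [Finset.card_insert_of_notMem, Finset.card_image_of_injOn, Ot_card ht]
  · intro o ho o' ho' h
    simp only at h
    rw [← diff_union (Finset.mem_coe.mp ho), h, diff_union (Finset.mem_coe.mp ho')]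
  · intro hmem
    obtain ⟨o, ho, h⟩ := Finset.mem_image.mp hmem
    have hne : t.Nonempty := Finset.card_pos.mp (by omega)
    obtain ⟨x, hx⟩ := hne
    have : x ∈ o \ t := by rw [h]; exact hx
    exact (Finset.mem_sdiff.mp this).2 hx

theorem sext_mem {t : Finset GolayPt} (ht : t.card = 4) : sext t ∈ sextets := by
  have hcards : ∀ u ∈ sext t, u.card = 4 := by
    intro u hu
    rcases Finset.mem_insert.mp hu with rfl | hu
    · exact ht
    · obtain ⟨o, ho, rfl⟩ := Finset.mem_image.mp hu
      exact card_diff ht ho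
  refine ⟨sext_card ht, hcards, ?_⟩
  have hsym : ∀ o ∈ Ot t, ∀ o' ∈ Ot t, o ≠ o' → (o \ t) ∪ (o' \ t) ∈ octads := by
    intro o ho o' ho' hne
    have hin := inter_eq_of_mem_Ot ht ho ho' hne
    have h1 := mem_Ot.mp ho
    have h2 := mem_Ot.mp ho'
    have := symmDiff_octad h1.1 h2.1 (by rw [hin, ht])
    have he : symmDiff o o' = (o \ t) ∪ (o' \ t) := by
      ext x
      simp only [Finset.mem_symmDiff, Finset.mem_union, Finset.mem_sdiff]
      have hx : x ∈ o ∧ x ∈ o' ↔ x ∈ t := by
        rw [← hin, Finset.mem_inter]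
      constructor
      · rintro (⟨a, b⟩ | ⟨a, b⟩)
        · exact Or.inl ⟨a, fun hc => b (h2.2 hc)⟩
        · exact Or.inr ⟨a, fun hc => b (h1.2 hc)⟩
      · rintro (⟨a, b⟩ | ⟨a, b⟩)
        · exact Or.inl ⟨a, fun hc => b (hx.mp ⟨a, hc⟩)⟩
        · exact Or.inr ⟨a, fun hc => b (hx.mp ⟨hc, a⟩)⟩
    rw [← he]
    exact this
  intro u hu v hv huv
  rcases Finset.mem_insert.mp hu with rfl | hu'
  · rcases Finset.mem_insert.mp hv with rfl | hv'
    · exact absurd rfl huv
    · obtain ⟨o, ho, rfl⟩ := Finset.mem_image.mp hv'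
      rw [diff_union ho]
      exact (mem_Ot.mp ho).1
  · rcases Finset.mem_insert.mp hv with rfl | hv'
    · obtain ⟨o, ho, rfl⟩ := Finset.mem_image.mp hu'
      rw [Finset.union_comm, diff_union ho]
      exact (mem_Ot.mp ho).1
    · obtain ⟨o, ho, rfl⟩ := Finset.mem_image.mp hu'
      obtain ⟨o', ho', rfl⟩ := Finset.mem_image.mp hv'
      apply hsym o ho o' ho'
      rintro rfl
      exact huv rfl

/-- Tetrads of a sextet are disjoint. -/
theorem disjoint_of_union_octad {t u : Finset GolayPt} (ht : t.card = 4) (hu : u.card = 4)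
    (h : t ∪ u ∈ octads) : Disjoint t u := by
  have h1 := octad_card h
  have h2 := Finset.card_union_add_card_inter t u
  rw [h1, ht, hu] at h2
  have : (t ∩ u).card = 0 := by omega
  exact Finset.disjoint_iff_inter_eq_empty.mpr (Finset.card_eq_zero.mp this)

/-- A sextet containing `t` is the sextet of `t`. -/
theorem eq_sext {S : Finset (Finset GolayPt)} (hS : S ∈ sextets) {t : Finset GolayPt} (ht : t ∈ S) :
    S = sext t := by
  obtain ⟨h6, h4, hu⟩ := hS
  have ht4 := h4 t ht
  apply Finset.eq_of_subset_of_card_le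
  · intro u huS
    by_cases hut : u = t
    · rw [hut]; exact self_mem_sext t
    · have hoct := hu t ht u huS (Ne.symm hut)
      have hd := disjoint_of_union_octad ht4 (h4 u huS) hoct
      apply Finset.mem_insert_of_mem
      apply Finset.mem_image.mpr
      refine ⟨t ∪ u, mem_Ot.mpr ⟨hoct, Finset.subset_union_left⟩, ?_⟩
      rw [Finset.union_sdiff_cancel_left hd]
  · rw [sext_card ht4, h6]

/-- All 4-sets. -/
def P4 : Finset (Finset GolayPt) := Finset.powersetCard 4 Finset.univ

theorem mem_P4 {t : Finset GolayPt} : t ∈ P4 ↔ t.card = 4 := by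
  simp [P4, Finset.mem_powersetCard]

/-- The sextets, as a finite set. -/
def sextetsF : Finset (Finset (Finset GolayPt)) := P4.image sext

theorem mem_sextetsF {S : Finset (Finset GolayPt)} : S ∈ sextetsF ↔ S ∈ sextets := by
  unfold sextetsF
  rw [Finset.mem_image]
  constructor
  · rintro ⟨t, ht, rfl⟩
    exact sext_mem (mem_P4.mp ht)
  · intro hS
    have h6 := hS.1
    have hne : S.Nonempty := Finset.card_pos.mp (by omega)
    obtain ⟨t, ht⟩ := hne
    exact ⟨t, mem_P4.mpr (hS.2.1 t ht), (eq_sext hS ht).symm⟩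

theorem P4_card : P4.card = 10626 := by
  unfold P4
  rw [Finset.card_powersetCard, Finset.card_univ, card_golayPt]
  rfl

theorem fib_eq (S : Finset (Finset GolayPt)) (hS' : S ∈ sextets) :
    (P4.filter fun t => sext t = S) = S := by
  ext t
  simp only [Finset.mem_filter, mem_P4]
  constructor
  · rintro ⟨_, rfl⟩
    exact self_mem_sext t
  · intro ht
    exact ⟨hS'.2.1 t ht, (eq_sext hS' ht).symm⟩

/-- General fibre counting. -/
theorem card_fibres {α β : Type*} [DecidableEq β] (s : Finset α) (f : α → β) (k : ℕ)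
    (h : ∀ b ∈ s.image f, (s.filter fun a => f a = b).card = k) : s.card = (s.image f).card * k := by
  rw [Finset.card_eq_sum_card_image f s, Finset.sum_congr rfl h, Finset.sum_const, smul_eq_mul]

theorem sextetsF_card : sextetsF.card = 1771 := by
  have h1 : P4.card = (P4.image sext).card * 6 := by
    apply card_fibres
    intro S hS
    have hS' : S ∈ sextets := mem_sextetsF.mp hS
    rw [fib_eq S hS']
    exact hS'.1
  rw [P4_card] at h1
  unfold sextetsF
  generalize (P4.image sext).card = x at h1 ⊢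
  omega

theorem coe_sextetsF : (sextetsF : Set (Finset (Finset GolayPt))) = sextets := by
  ext S
  exact mem_sextetsF

/-- S1550: every 4-set lies in a unique sextet, and there are 1771 sextets. -/
theorem tetrad_unique_sextet : (∀ t : Finset GolayPt, t.card = 4 →
    ∃! S : Finset (Finset GolayPt), S ∈ sextets ∧ t ∈ S) ∧ sextets.ncard = 1771 := by
  refine ⟨fun t ht => ⟨sext t, ⟨sext_mem ht, self_mem_sext t⟩, ?_⟩, ?_⟩
  · rintro S ⟨hS, htS⟩
    exact eq_sext hS htS
  · rw [← coe_sextetsF, Set.ncard_coe_finset, sextetsF_card]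

end Cfsg.Agent.Lib.GolayOct.Sextet
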