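/-
Trios of the length-24 code, counting octads by intersection.
-/
import Cfsg.Agent.Lib.GolayOct.Sextet
import Cfsg.Agent.Lib.Steiner.Basic

set_option autoImplicit false

namespace Cfsg.Agent.Lib.GolayOct.Trio

open Cfsg Cfsg.Agent.Lib.Golay.Core Cfsg.Agent.Lib.GolayOct.Basic
open Cfsg.Agent.Lib.GolayOct.Sextet
open Cfsg.Agent.Lib.Steiner.Basic (tri blocksF mem_blocksF card_inter_eq ncard_disjoint)

attribute [local irreducible] octadsF

theorem card_fintype : Fintype.card GolayPt = 24 := card_golayPt

/-- S1555's count in general form. -/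
theorem ncard_inter_eq {o s : Finset GolayPt} (ho : o ∈ octads) (hs : s ⊆ o) :
    {o' : Finset GolayPt | o' ∈ octads ∧ o ∩ o' = s}.ncard = tri 24 8 5 s.card (8 - s.card) := by
  have h := card_inter_eq steiner58 (by norm_num) ho s hs
  rw [card_fintype] at h
  rw [← h, ← Set.ncard_coe_finset]
  congr 1
  ext c
  simp only [Set.mem_ofPred_eq, Finset.coe_filter, mem_blocksF, Finset.inter_comm o c]

theorem ncard_disjoint_octads {o : Finset GolayPt} (ho : o ∈ octads) :
    {o' : Finset GolayPt | o' ∈ octads ∧ Disjoint o o'}.ncard = 30 := by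
  have h := ncard_disjoint steiner58 (by norm_num) ho
  rw [card_fintype] at h
  rw [h]
  decide

/-- The third octad. -/
theorem compl_union_octad {o o' : Finset GolayPt} (ho : o ∈ octads) (ho' : o' ∈ octads)
    (hd : Disjoint o o') : (o ∪ o')ᶜ ∈ octads := by
  have h1 : symmDiff o o' = o ∪ o' := hd.symmDiff_eq_sup
  refine ⟨?_, ?_⟩
  · rw [← h1]
    exact CS_compl (CS_symmDiff ho.1 ho'.1)
  · rw [Finset.card_compl, card_fintype, Finset.card_union_of_disjoint hd, ho.2, ho'.2]

theorem disjoint_compl_union_left (o o' : Finset GolayPt) : Disjoint o (o ∪ o')ᶜ := by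
  rw [Finset.disjoint_left]
  intro x hx hx'
  rw [Finset.mem_compl, Finset.mem_union, not_or] at hx'
  exact hx'.1 hx

theorem disjoint_compl_union_right (o o' : Finset GolayPt) : Disjoint o' (o ∪ o')ᶜ := by
  rw [Finset.disjoint_left]
  intro x hx hx'
  rw [Finset.mem_compl, Finset.mem_union, not_or] at hx'
  exact hx'.2 hx

theorem ne_of_disjoint_octads {o o' : Finset GolayPt} (ho : o ∈ octads) (hd : Disjoint o o') :
    o ≠ o' := by
  rintro rfl
  have := Finset.disjoint_self_iff_empty o |>.mp hd
  rw [this] at ho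
  have := ho.2
  simp at this

/-- The trio of two disjoint octads. -/
def tf (p : Finset GolayPt × Finset GolayPt) : Finset (Finset GolayPt) :=
  {p.1, p.2, (p.1 ∪ p.2)ᶜ}

/-- Ordered pairs of disjoint octads. -/
@[irreducible] def DP : Finset (Finset GolayPt × Finset GolayPt) :=
  (octadsF ×ˢ octadsF).filter fun p => Disjoint p.1 p.2

theorem mem_DP {p : Finset GolayPt × Finset GolayPt} :
    p ∈ DP ↔ p.1 ∈ octads ∧ p.2 ∈ octads ∧ Disjoint p.1 p.2 := by
  unfold DP
  simp [mem_octadsF, and_assoc]

theorem DP_card : DP.card = 22770 := by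
  have h1 := Finset.card_eq_sum_card_fiberwise (f := Prod.fst) (s := DP) (t := octadsF) (by
    intro p hp
    exact Finset.mem_coe.mpr (mem_octadsF.mpr (mem_DP.mp (Finset.mem_coe.mp hp)).1))
  have h2 : ∀ o ∈ octadsF, (DP.filter fun p => p.1 = o).card = 30 := by
    intro o ho
    have ho' := mem_octadsF.mp ho
    rw [← ncard_disjoint_octads ho', ← Set.ncard_coe_finset]
    have : ((DP.filter fun p => p.1 = o : Finset _) : Set _) =
        (fun x => (o, x)) '' {o' : Finset GolayPt | o' ∈ octads ∧ Disjoint o o'} := by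
      ext p
      simp only [Finset.coe_filter, mem_DP, Set.mem_ofPred_eq, Set.mem_image]
      constructor
      · rintro ⟨⟨h1, h2, h3⟩, rfl⟩
        exact ⟨p.2, ⟨h2, h3⟩, rfl⟩
      · rintro ⟨x, ⟨h1, h2⟩, rfl⟩
        exact ⟨⟨ho', h1, h2⟩, rfl⟩
    rw [this, Set.ncard_image_of_injective]
    intro a b h
    exact (Prod.ext_iff.mp h).2
  rw [Finset.sum_congr rfl h2, Finset.sum_const, octadsF_card, smul_eq_mul] at h1
  rw [h1]

/-- Properties of the trio of a pair. -/
theorem tf_mem {p : Finset GolayPt × Finset GolayPt} (hp : p ∈ DP) : tf p ∈ trios := by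
  obtain ⟨h1, h2, hd⟩ := mem_DP.mp hp
  have h3 := compl_union_octad h1 h2 hd
  have hd1 := disjoint_compl_union_left p.1 p.2
  have hd2 := disjoint_compl_union_right p.1 p.2
  refine ⟨?_, ?_, ?_⟩
  · unfold tf
    rw [Finset.card_insert_of_notMem, Finset.card_insert_of_notMem, Finset.card_singleton]
    · rw [Finset.mem_singleton]
      exact ne_of_disjoint_octads h2 hd2
    · rw [Finset.mem_insert, Finset.mem_singleton, not_or]
      exact ⟨ne_of_disjoint_octads h1 hd, ne_of_disjoint_octads h1 hd1⟩
  · intro o ho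
    simp only [tf, Finset.mem_insert, Finset.mem_singleton] at ho
    rcases ho with rfl | rfl | rfl
    · exact h1
    · exact h2
    · exact h3
  · intro o ho o' ho' hne
    simp only [tf, Finset.mem_insert, Finset.mem_singleton] at ho ho'
    rcases ho with rfl | rfl | rfl <;> rcases ho' with rfl | rfl | rfl
    · exact absurd rfl hne
    · exact hd
    · exact hd1
    · exact hd.symm
    · exact absurd rfl hne
    · exact hd2
    · exact hd1.symm
    · exact hd2.symm
    · exact absurd rfl hne

/-- A trio is determined by two of its members. -/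
theorem eq_tf {T : Finset (Finset GolayPt)} (hT : T ∈ trios) {x y : Finset GolayPt} (hx : x ∈ T)
    (hy : y ∈ T) (hne : x ≠ y) : T = tf (x, y) := by
  obtain ⟨h3, hoct, hdis⟩ := hT
  have hxy := hdis x hx y hy hne
  -- the third member
  have hT3 : ∃ z ∈ T, z ≠ x ∧ z ≠ y := by
    by_contra hcon
    push Not at hcon
    have hsub : T ⊆ {x, y} := by
      intro z hz
      by_cases hzx : z = x
      · rw [hzx]; simp
      · have := hcon z hz hzx
        rw [this]; simp
    have := (Finset.card_le_card hsub).trans Finset.card_le_two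
    omega
  obtain ⟨z, hz, hzx, hzy⟩ := hT3
  have hzeq : z = (x ∪ y)ᶜ := by
    apply Finset.eq_of_subset_of_card_le
    · intro a ha
      rw [Finset.mem_compl, Finset.mem_union, not_or]
      exact ⟨fun hax => Finset.disjoint_left.mp (hdis z hz x hx hzx) ha hax,
        fun hay => Finset.disjoint_left.mp (hdis z hz y hy hzy) ha hay⟩
    · rw [Finset.card_compl, card_fintype, Finset.card_union_of_disjoint hxy, (hoct x hx).2,
        (hoct y hy).2, (hoct z hz).2]
  apply Finset.eq_of_subset_of_card_le
  · intro a ha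
    by_contra hcon
    simp only [tf, Finset.mem_insert, Finset.mem_singleton, not_or] at hcon
    have hsub : ({a, x, y, z} : Finset (Finset GolayPt)) ⊆ T := by
      intro b hb
      simp only [Finset.mem_insert, Finset.mem_singleton] at hb
      rcases hb with rfl | rfl | rfl | rfl <;> assumption
    have hcard : ({a, x, y, z} : Finset (Finset GolayPt)).card = 4 := by
      rw [Finset.card_insert_of_notMem, Finset.card_insert_of_notMem,
        Finset.card_insert_of_notMem, Finset.card_singleton]
      · rw [Finset.mem_singleton]; exact Ne.symm hzy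
      · simp only [Finset.mem_insert, Finset.mem_singleton, not_or]
        exact ⟨hne, Ne.symm hzx⟩
      · simp only [Finset.mem_insert, Finset.mem_singleton, not_or]
        exact ⟨hcon.1, hcon.2.1, hzeq ▸ hcon.2.2⟩
    have := Finset.card_le_card hsub
    omega
  · have h4 : (tf (x, y)).card ≤ 3 := Finset.card_le_three
    omega

/-- Fibres of the trio map. -/
theorem fib_tf {T : Finset (Finset GolayPt)} (hT : T ∈ trios) :
    (DP.filter fun p => tf p = T) = T.offDiag := by
  ext p
  simp only [Finset.mem_filter, Finset.mem_offDiag]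
  constructor
  · rintro ⟨hp, rfl⟩
    obtain ⟨h1, h2, hd⟩ := mem_DP.mp hp
    refine ⟨by simp [tf], by simp [tf], ne_of_disjoint_octads h1 hd⟩
  · rintro ⟨hx, hy, hne⟩
    refine ⟨mem_DP.mpr ⟨hT.2.1 _ hx, hT.2.1 _ hy, hT.2.2 _ hx _ hy hne⟩, ?_⟩
    exact (eq_tf hT hx hy hne).symm

/-- The trios, as a finite set. -/
@[irreducible] def triosF : Finset (Finset (Finset GolayPt)) := DP.image tf

theorem mem_image_tf {T : Finset (Finset GolayPt)} : T ∈ DP.image tf ↔ T ∈ trios := by
  rw [Finset.mem_image]
  constructor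
  · rintro ⟨p, hp, rfl⟩
    exact tf_mem hp
  · intro hT
    have h3 := hT.1
    obtain ⟨x, y, z, hxy, hxz, hyz, rfl⟩ := Finset.card_eq_three.mp h3
    refine ⟨(x, y), mem_DP.mpr ⟨hT.2.1 _ (by simp), hT.2.1 _ (by simp),
      hT.2.2 _ (by simp) _ (by simp) hxy⟩, ?_⟩
    exact (eq_tf hT (by simp) (by simp) hxy).symm

theorem mem_triosF {T : Finset (Finset GolayPt)} : T ∈ triosF ↔ T ∈ trios := by
  unfold triosF
  exact mem_image_tf

theorem triosF_card : triosF.card = 3795 := by
  have h1 : DP.card = (DP.image tf).card * 6 := by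
    apply card_fibres
    intro T hT
    have hT' : T ∈ trios := mem_image_tf.mp hT
    rw [fib_tf hT', Finset.offDiag_card, hT'.1]
  rw [DP_card] at h1
  unfold triosF
  generalize (DP.image tf).card = x at h1 ⊢
  omega

theorem coe_triosF : (triosF : Set (Finset (Finset GolayPt))) = trios := by
  ext T
  exact mem_triosF

theorem trios_ncard : trios.ncard = 3795 := by
  rw [← coe_triosF, Set.ncard_coe_finset, triosF_card]

end Cfsg.Agent.Lib.GolayOct.Trio
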